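import Mathlib
import Groth.Agent.QCohExt.SubAlg
import Groth.Agent.RelSpecLib.Basic

/-!
# Zariski's Main Theorem: factorisation through a finite morphism
-/

noncomputable section

universe u

open CategoryTheory Limits AlgebraicGeometry Opposite TopologicalSpace

namespace Groth.Agent.ZMT

open Groth.Agent.QCohExt Groth.Agent.QCohBase

/-- A morphism which is an open immersion on an open cover and injective is an open immersion. -/
theorem isOpenImmersion_of_charts {X T : Scheme.{u}} (j : X ⟶ T) {ι : Type*} (Z : ι → Scheme.{u})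
    (e : ∀ i, Z i ⟶ X) [∀ i, IsOpenImmersion (e i)] (hcov : ∀ x : X, ∃ i, x ∈ Set.range (e i))
    (he : ∀ i, IsOpenImmersion (e i ≫ j)) (hinj : Function.Injective j) : IsOpenImmersion j := by
  refine IsOpenImmersion.iff_isIso_stalkMap.2 ⟨.of_continuous_injective_isOpenMap j.continuous hinj
    fun U hU => ?_, fun x => ?_⟩
  · have : j '' U = ⋃ i, (e i ≫ j) '' ((e i) ⁻¹' U) := by
      ext y
      simp only [Set.mem_image, Set.mem_iUnion, Set.mem_preimage, Scheme.Hom.comp_apply]
      constructor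
      · rintro ⟨x, hx, rfl⟩
        obtain ⟨i, z, rfl⟩ := hcov x
        exact ⟨i, z, hx, rfl⟩
      · rintro ⟨i, z, hz, rfl⟩
        exact ⟨e i z, hz, rfl⟩
    rw [this]
    exact isOpen_iUnion fun i => haveI := he i
      (e i ≫ j).isOpenEmbedding.isOpenMap _ (hU.preimage (e i).continuous)
  · obtain ⟨i, z, rfl⟩ := hcov x
    haveI := he i
    haveI : IsIso (j.stalkMap (e i z) ≫ (e i).stalkMap z) := by
      rw [← Scheme.Hom.stalkMap_comp]
      exact (IsOpenImmersion.iff_isIso_stalkMap.1 (he i)).2 z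
    exact IsIso.of_isIso_comp_right (j.stalkMap (e i z)) ((e i).stalkMap z)

/-- Subrings of integral algebras generated by finitely many sections are finite. -/
theorem finite_str_loc {S : Scheme.{u}} {B : RelSpec.QCAlg S} (E : S.Modules) (j : E ⟶ B.toModule)
    [E.IsQuasicoherent] {U : S.Opens} (hU : IsAffineOpen U) [Module.Finite Γ(S, U) Γ(E, U)]
    (hint : (B.str.app (op U)).hom.IsIntegral) :
    ((genSys B E j).alg.str.app (op U)).hom.Finite := by
  letI : Algebra Γ(S, U) (B.presheaf.obj (op U)) := (B.str.app (op U)).hom.toAlgebra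
  obtain ⟨s, hs⟩ := Module.Finite.fg_top (R := Γ(S, U)) (M := Γ(E, U))
  let F : Set (B.presheaf.obj (op U)) :=
    (fun e : Γ(E, U) => (show B.presheaf.obj (op U) from j.app U e)) '' (s : Set Γ(E, U))
  have hM : (Algebra.adjoin Γ(S, U) F).toSubring = gen B E j U := by
    refine le_antisymm ?_ (Subring.closure_le.2 ?_)
    · rw [Algebra.adjoin_eq_ring_closure, Subring.closure_le]
      rintro x (⟨r, rfl⟩ | ⟨e, -, rfl⟩)
      · exact Subring.subset_closure (Or.inl ⟨r, rfl⟩)
      · exact Subring.subset_closure (Or.inr ⟨e, rfl⟩)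
    · rintro x (⟨r, rfl⟩ | ⟨e, rfl⟩)
      · exact Subalgebra.algebraMap_mem _ r
      · let ψ : Γ(E, U) → B.presheaf.obj (op U) := fun a => j.app U a
        have key : ∀ a : Γ(E, U), a ∈ Submodule.span Γ(S, U) (s : Set Γ(E, U)) →
            ψ a ∈ Algebra.adjoin Γ(S, U) F := by
          intro a ha
          induction ha using Submodule.span_induction with
          | mem a ha => exact Algebra.subset_adjoin ⟨a, ha, rfl⟩
          | zero =>
            have h : ψ 0 = 0 := map_zero (j.app U).hom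
            rw [h]; exact zero_mem _
          | add a b _ _ iha ihb =>
            have h : ψ (a + b) = ψ a + ψ b := map_add (j.app U).hom a b
            rw [h]; exact add_mem iha ihb
          | smul r a _ iha =>
            have h : ψ (r • a) = B.str.app (op U) r * ψ a := Scheme.Modules.Hom.app_smul ..
            rw [h]
            exact mul_mem (Subalgebra.algebraMap_mem (Algebra.adjoin Γ(S, U) F) r) iha
        exact key e (hs ▸ Submodule.mem_top)
  have hfg : (Algebra.adjoin Γ(S, U) F).toSubmodule.FG :=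
    fg_adjoin_of_finite (s.finite_toSet.image _) fun x _ => hint x
  letI : Algebra Γ(S, U) ((genSys B E j).alg.presheaf.obj (op U)) :=
    ((genSys B E j).alg.str.app (op U)).hom.toAlgebra
  haveI : Module.Finite Γ(S, U) (Algebra.adjoin Γ(S, U) F) := Module.Finite.iff_fg.2 hfg
  have heq : (Algebra.adjoin Γ(S, U) F).toSubring = (genSys B E j).loc U :=
    hM.trans ((genSys B E j).loc_eq hU).symm
  let e : Algebra.adjoin Γ(S, U) F →ₗ[Γ(S, U)] (genSys B E j).alg.presheaf.obj (op U) :=
    { toFun := fun x => ⟨x.1, heq ▸ (Subalgebra.mem_toSubring.2 x.2)⟩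
      map_add' := fun x y => rfl
      map_smul' := fun r x => Subtype.ext (Algebra.smul_def r x.1) }
  refine Module.Finite.of_surjective e fun y => ?_
  have hy : y.1 ∈ (Algebra.adjoin Γ(S, U) F).toSubring := heq.symm ▸ y.2
  exact ⟨⟨y.1, Subalgebra.mem_toSubring.1 hy⟩, rfl⟩

/-- The relative spectrum of a finite algebra is finite over the base. -/
theorem isFinite_π {S : Scheme.{u}} (A : RelSpec.QCAlg S)
    (h : ∀ U : S.Opens, IsAffineOpen U → (A.str.app (op U)).hom.Finite) : IsFinite A.π := by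
  rw [isFinite_iff]
  refine ⟨inferInstance, fun U hU => ?_⟩
  haveI := RelSpecLib.isIso_gammaAff A U hU
  have e : A.π.app U = A.str.app (op U) ≫ inv (A.gammaAff U hU) := by
    rw [IsIso.eq_comp_inv]; exact A.π_app_gammaAff U hU
  rw [e, CommRingCat.hom_comp]
  exact (RingHom.Finite.of_surjective _
    (ConcreteCategory.bijective_of_isIso (inv (A.gammaAff U hU))).2).comp (h U hU)

/-- A localisation of a big enough subring. -/
theorem isLocalization_away_of_subring {A B Bl R : Type u} [CommRing A] [CommRing B] [CommRing Bl]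
    [CommRing R] [Algebra A B] [Algebra B Bl] [Algebra A Bl] [IsScalarTower A B Bl]
    (g : B) [IsLocalization.Away g Bl] (ι : R →+* B) (hι : Function.Injective ι)
    [Algebra R Bl] (halg : ∀ r, algebraMap R Bl r = algebraMap B Bl (ι r))
    (hA : ∀ a, algebraMap A B a ∈ ι.range) (a : R) (ha : ι a = g)
    (G : Set Bl) (hG : Algebra.adjoin A G = ⊤)
    (hGR : ∀ y ∈ G, ∃ (n : ℕ) (r : R), y * algebraMap B Bl g ^ n = algebraMap R Bl r) :
    IsLocalization.Away a Bl := by
  have hag : algebraMap R Bl a = algebraMap B Bl g := by rw [halg, ha]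
  refine IsLocalization.Away.mk a (hag ▸ IsLocalization.Away.algebraMap_isUnit g) (fun y => ?_)
    fun r t h => ?_
  · have hy : y ∈ Algebra.adjoin A G := hG ▸ Algebra.mem_top
    rw [hag]
    induction hy using Algebra.adjoin_induction with
    | mem x hx => exact hGR x hx
    | algebraMap x =>
      obtain ⟨r, hr⟩ := hA x
      exact ⟨0, r, by rw [pow_zero, mul_one, halg, hr, ← IsScalarTower.algebraMap_apply]⟩
    | add x z _ _ ihx ihz =>
      obtain ⟨n, r, hr⟩ := ihx
      obtain ⟨m, t, ht⟩ := ihz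
      refine ⟨n + m, r * a ^ m + t * a ^ n, ?_⟩
      rw [map_add, map_mul, map_mul, map_pow, map_pow, hag, ← hr, ← ht]
      ring
    | mul x z _ _ ihx ihz =>
      obtain ⟨n, r, hr⟩ := ihx
      obtain ⟨m, t, ht⟩ := ihz
      exact ⟨n + m, r * t, by rw [map_mul, ← hr, ← ht]; ring⟩
  · rw [halg, halg] at h
    obtain ⟨⟨_, l, rfl⟩, hl⟩ := (IsLocalization.eq_iff_exists (Submonoid.powers g) Bl).1 h
    exact ⟨l, hι (by simpa only [map_mul, map_pow, ha] using hl)⟩

/-- Numerators: on a basic open of an affine of the relative normalisation inside the source, the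
sections are a finite type algebra. -/
theorem exists_piece {X S : Scheme.{u}} (f : X ⟶ S) [LocallyQuasiFinite f] [LocallyOfFiniteType f]
    [QuasiCompact f] [IsSeparated f] (x : X) :
    ∃ (U : S.Opens) (_ : IsAffineOpen U) (g : Γ(f.normalization, f.fromNormalization ⁻¹ᵁ U))
      (T : Finset Γ(f.normalization, f.fromNormalization ⁻¹ᵁ U)),
      f.normalization.basicOpen g ≤ f.toNormalization.opensRange ∧
      f.toNormalization x ∈ f.normalization.basicOpen g ∧ g ∈ T ∧
      ∃ G : Set Γ(f.normalization, f.normalization.basicOpen g),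
        (letI := (f.fromNormalization.appLE U (f.normalization.basicOpen g)
            (f.normalization.basicOpen_le g)).hom.toAlgebra;
          Algebra.adjoin Γ(S, U) G = ⊤) ∧
        ∀ y ∈ G, ∃ (n : ℕ) (t : _), t ∈ T ∧
          y * (f.normalization.presheaf.map (homOfLE (f.normalization.basicOpen_le g)).op).hom g ^ n =
            (f.normalization.presheaf.map (homOfLE (f.normalization.basicOpen_le g)).op).hom t := by
  classical
  obtain ⟨_, ⟨U, hU, rfl⟩, hxU, -⟩ := S.isBasis_affineOpens.exists_subset_of_mem_open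
    (Set.mem_univ (f x)) isOpen_univ
  let N := f.normalization
  let ν := f.fromNormalization
  let V := ν ⁻¹ᵁ U
  have hV : IsAffineOpen V := hU.preimage ν
  have hxV : f.toNormalization x ∈ V := by
    show ν (f.toNormalization x) ∈ U
    rw [← Scheme.Hom.comp_apply, f.toNormalization_fromNormalization]
    exact hxU
  obtain ⟨g, hg, hxg⟩ := hV.exists_basicOpen_le
    (⟨_, x, rfl⟩ : f.toNormalization.opensRange) hxV
  let D := N.basicOpen g
  have hD : IsAffineOpen D := hV.basicOpen g
  have hDV : D ≤ V := N.basicOpen_le g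
  have hfin : (ν.appLE U D hDV).hom.FiniteType := by
    have hD' : IsAffineOpen (f.toNormalization ⁻¹ᵁ D) := hD.preimage_of_isOpenImmersion _ hg
    haveI : IsIso (f.toNormalization.app D) := f.toNormalization.isIso_app D hg
    have hle : f.toNormalization ⁻¹ᵁ D ≤ f ⁻¹ᵁ U := fun z hz => by
      show f z ∈ U
      rw [← f.toNormalization_fromNormalization, Scheme.Hom.comp_apply]
      exact hDV hz
    have h := f.finiteType_appLE hU hD' hle
    have e : f.appLE U (f.toNormalization ⁻¹ᵁ D) hle =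
        ν.appLE U D hDV ≫ f.toNormalization.app D := by
      rw [Scheme.Hom.app_eq_appLE, Scheme.Hom.appLE_comp_appLE]
      congr 1
      exact f.toNormalization_fromNormalization.symm
    have e' : ν.appLE U D hDV =
        f.appLE U (f.toNormalization ⁻¹ᵁ D) hle ≫ inv (f.toNormalization.app D) := by
      rw [e, Category.assoc, IsIso.hom_inv_id, Category.comp_id]
    rw [e', CommRingCat.hom_comp]
    exact (RingHom.FiniteType.of_surjective _
      (ConcreteCategory.bijective_of_isIso (inv (f.toNormalization.app D))).2).comp h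
  letI := (ν.appLE U D hDV).hom.toAlgebra
  obtain ⟨s, hs⟩ := (hfin : Algebra.FiniteType Γ(S, U) Γ(N, D)).out
  haveI := hV.isLocalization_basicOpen g
  choose n t ht using fun y : Γ(N, D) => IsLocalization.Away.surj g y
  exact ⟨U, hU, g, insert g (s.image t), hg, hxg, Finset.mem_insert_self _ _, s, hs, fun y hy =>
    ⟨n y, t y, Finset.mem_insert_of_mem (Finset.mem_image_of_mem t (Finset.mem_coe.1 hy)), ht y⟩⟩

/-- Zariski's Main Theorem in the form of a finite factorisation. -/
theorem exists_openImmersion_finite {X S : Scheme.{u}} (f : X ⟶ S) [CompactSpace S]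
    [QuasiSeparatedSpace S] [LocallyQuasiFinite f] [LocallyOfFiniteType f] [QuasiCompact f]
    [IsSeparated f] :
    ∃ (T : Scheme.{u}) (j : X ⟶ T) (π : T ⟶ S),
      IsOpenImmersion j ∧ QuasiCompact j ∧ IsFinite π ∧ j ≫ π = f := by
  classical
  let N := f.normalization
  let ν := f.fromNormalization
  let j₀ := f.toNormalization
  let B := RelSpec.QCAlg.directImage ν
  haveI := isQuasicoherent_toModule B
  choose U hU g T hg hxg hgT G hG hGT using exists_piece f
  haveI : CompactSpace X := QuasiCompact.compactSpace_of_compactSpace f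
  obtain ⟨cs, hcs⟩ := (isCompact_univ (X := X)).elim_finite_subcover
    (fun x : X => ((j₀ ⁻¹ᵁ N.basicOpen (g x) : X.Opens) : Set X))
    (fun x => (j₀ ⁻¹ᵁ N.basicOpen (g x)).2) (fun x _ => Set.mem_iUnion.2 ⟨x, hxg x⟩)
  let J := Σ x : (cs : Set X), (T x.1 : Set Γ(N, ν ⁻¹ᵁ U x.1))
  haveI : Finite (cs : Set X) := cs.finite_toSet.to_subtype
  haveI : Finite J := inferInstance
  cases nonempty_fintype J
  let eJ := (Fintype.equivFin J).symm
  obtain ⟨E, j, -, hq, hF, hmem⟩ := exists_sub_through B.toModule (Fintype.card J)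
    (fun n => U (eJ n).1.1) (fun n => hU _)
    (fun n => (show Γ(B.toModule, U (eJ n).1.1) from ((eJ n).2.1 : Γ(N, ν ⁻¹ᵁ U (eJ n).1.1))))
  haveI := hq
  let P := genSys B E j
  let ω : P.alg.presheaf ⟶ ν.base _* N.presheaf := P.incl.hom
  let k : N ⟶ P.alg.spec := RelSpecLib.lift ν ω
  have hk : k ≫ P.alg.π = ν := RelSpecLib.lift_π ν ω P.incl.comm
  haveI hfinite : IsFinite P.alg.π := isFinite_π _ fun W hW => by
    haveI := hF W hW le_top
    exact finite_str_loc E j hW (IsIntegralHom.isIntegral_app ν W hW)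
  have hjπ : (j₀ ≫ k) ≫ P.alg.π = f := by
    rw [Category.assoc, hk]; exact f.toNormalization_fromNormalization
  refine ⟨P.alg.spec, j₀ ≫ k, P.alg.π, ?_, ?_, hfinite, hjπ⟩
  swap
  · haveI : QuasiCompact ((j₀ ≫ k) ≫ P.alg.π) := by rw [hjπ]; infer_instance
    exact QuasiCompact.of_comp (j₀ ≫ k) P.alg.π
  -- the charts
  have hB : ∀ x, IsAffineOpen (N.basicOpen (g x)) := fun x =>
    ((hU x).preimage ν).basicOpen (g x)
  have hTmem : ∀ (x : (cs : Set X)) (t : Γ(N, ν ⁻¹ᵁ U x.1)), t ∈ T x.1 → t ∈ P.loc (U x.1) := by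
    intro x t ht
    obtain ⟨n, hn⟩ := eJ.surjective ⟨x, t, ht⟩
    have h := hmem n
    rw [hn] at h
    exact P.mem_loc_of_mem (Subring.subset_closure (Or.inr h))
  have key : ∀ x : (cs : Set X),
      IsOpenImmersion ((hB x.1).fromSpec ≫ k) ∧
        ∀ y : N, k y ∈ Set.range ((hB x.1).fromSpec ≫ k) →
          y ∈ N.basicOpen (g x.1) := by
    intro x
    let W := U x.1
    let V := ν ⁻¹ᵁ W
    have hV : IsAffineOpen V := (hU x.1).preimage ν
    let γ : Γ(N, V) := g x.1
    have hD : IsAffineOpen (N.basicOpen γ) := hV.basicOpen γ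
    let a : P.alg.presheaf.obj (op W) := (⟨γ, hTmem x γ (hgT x.1)⟩ : P.loc W)
    have hfrom : hV.fromSpec ≫ k = Spec.map (ω.app (op W)) ≫ P.alg.ι W (hU x.1) := by
      rw [← hV.isoSpec_inv_ι, Category.assoc, RelSpecLib.ι_lift ν ω W (hU x.1),
        RelSpecLib.liftPiece, ← hV.isoSpec_hom, Iso.inv_hom_id_assoc]
    let res := N.presheaf.map (homOfLE (N.basicOpen_le γ)).op
    have hchart : hD.fromSpec ≫ k = Spec.map (ω.app (op W) ≫ res) ≫ P.alg.ι W (hU x.1) := by
      rw [← hV.map_fromSpec hD (homOfLE (N.basicOpen_le γ)).op, Category.assoc, hfrom,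
        ← Spec.map_comp_assoc]
      try rfl
    letI : Algebra Γ(S, W) Γ(N, V) := (ν.app W).hom.toAlgebra
    letI : Algebra Γ(N, V) Γ(N, N.basicOpen γ) := res.hom.toAlgebra
    letI : Algebra Γ(S, W) Γ(N, N.basicOpen γ) :=
      (ν.appLE W (N.basicOpen γ) (N.basicOpen_le γ)).hom.toAlgebra
    haveI : IsScalarTower Γ(S, W) Γ(N, V) Γ(N, N.basicOpen γ) := .of_algebraMap_eq' rfl
    haveI : IsLocalization.Away γ Γ(N, N.basicOpen γ) := hV.isLocalization_basicOpen γ
    letI : Algebra (P.alg.presheaf.obj (op W)) Γ(N, N.basicOpen γ) :=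
      (ω.app (op W) ≫ res).hom.toAlgebra
    haveI hloc : IsLocalization.Away a Γ(N, N.basicOpen γ) :=
      isLocalization_away_of_subring (A := Γ(S, W)) (B := Γ(N, V))
        (R := P.alg.presheaf.obj (op W)) γ
        (P.incl.hom.app (op W)).hom (P.incl_injective W) (fun _ => rfl)
        (fun r => ⟨P.alg.str.app (op W) r, rfl⟩) a rfl (G x.1) (hG x.1)
        (fun y hy => by
          obtain ⟨n, t, ht, h⟩ := hGT x.1 y hy
          exact ⟨n, ⟨t, hTmem x t ht⟩, h⟩)
    haveI : IsOpenImmersion (Spec.map (ω.app (op W) ≫ res)) :=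
      IsOpenImmersion.of_isLocalization a
    refine ⟨by rw [hchart]; infer_instance, fun y ⟨w, hw⟩ => ?_⟩
    have hyV : y ∈ V := by
      show ν y ∈ W
      have h1 : (hD.fromSpec ≫ k) w ∈ P.alg.π ⁻¹ᵁ W := by
        show P.alg.π ((hD.fromSpec ≫ k) w) ∈ W
        rw [Scheme.Hom.comp_apply, ← Scheme.Hom.comp_apply k, hk]
        exact N.basicOpen_le γ (SetLike.mem_coe.1 (hD.range_fromSpec ▸ ⟨w, rfl⟩))
      rw [← hk, Scheme.Hom.comp_apply, ← hw]
      exact h1
    obtain ⟨z, rfl⟩ : y ∈ Set.range hV.fromSpec := hV.range_fromSpec ▸ hyV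
    have hw' : Spec.map (ω.app (op W)) z = Spec.map (ω.app (op W) ≫ res) w := by
      apply (P.alg.ι W (hU x.1)).isOpenEmbedding.injective
      rw [← Scheme.Hom.comp_apply, ← hfrom, ← Scheme.Hom.comp_apply, ← hchart]
      exact hw.symm
    show z ∈ hV.fromSpec ⁻¹ᵁ N.basicOpen γ
    rw [hV.fromSpec_preimage_basicOpen]
    intro hz
    have h2 : a ∈
        (Spec.map (ω.app (op W)) z).asIdeal := hz
    rw [hw'] at h2
    exact w.isPrime.ne_top (Ideal.eq_top_of_isUnit_mem _ h2
      (IsLocalization.Away.algebraMap_isUnit (S := Γ(N, N.basicOpen γ))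
        a))
  let e : ∀ x : (cs : Set X), Spec Γ(N, N.basicOpen (g x.1)) ⟶ X := fun x =>
    IsOpenImmersion.lift j₀ (hB x.1).fromSpec
      (by rw [IsAffineOpen.range_fromSpec]; exact hg x.1)
  have he : ∀ x, e x ≫ j₀ = (hB x.1).fromSpec := fun x =>
    IsOpenImmersion.lift_fac _ _ _
  haveI : ∀ x, IsOpenImmersion (e x) := fun x => by
    haveI : IsOpenImmersion (e x ≫ j₀) := by rw [he]; infer_instance
    exact IsOpenImmersion.of_comp (e x) j₀
  have hmemr : ∀ (x : (cs : Set X)) (z : X), j₀ z ∈ N.basicOpen (g x.1) → z ∈ Set.range (e x) := by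
    intro x z hz
    rw [← SetLike.mem_coe, ← IsAffineOpen.range_fromSpec (hB x.1)] at hz
    obtain ⟨w, hw⟩ := hz
    refine ⟨w, j₀.isOpenEmbedding.injective ?_⟩
    rw [← Scheme.Hom.comp_apply, he]
    exact hw
  refine isOpenImmersion_of_charts (j₀ ≫ k) _ e (fun z => ?_) (fun x => ?_) fun y z hyz => ?_
  · obtain ⟨x, hx, hzx⟩ := Set.mem_iUnion₂.1 (hcs (Set.mem_univ z))
    exact ⟨⟨x, hx⟩, hmemr _ z hzx⟩
  · rw [← Category.assoc, he]
    exact (key x).1
  · obtain ⟨x, hx, hyx⟩ := Set.mem_iUnion₂.1 (hcs (Set.mem_univ y))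
    obtain ⟨w, rfl⟩ := hmemr ⟨x, hx⟩ y hyx
    have hw : (j₀ ≫ k) z = ((hB x).fromSpec ≫ k) w := by
      rw [← hyz, ← he ⟨x, hx⟩, Category.assoc, Scheme.Hom.comp_apply (e ⟨x, hx⟩)]
    have hz : j₀ z ∈ N.basicOpen (g x) :=
      (key ⟨x, hx⟩).2 _ ⟨w, by rw [← hw, Scheme.Hom.comp_apply]⟩
    obtain ⟨w', rfl⟩ := hmemr ⟨x, hx⟩ z hz
    congr 1
    haveI := (key ⟨x, hx⟩).1
    have hyz' : (e ⟨x, hx⟩ ≫ j₀ ≫ k) w = (e ⟨x, hx⟩ ≫ j₀ ≫ k) w' := hyz
    rw [← Category.assoc, he] at hyz'
    exact ((hB x).fromSpec ≫ k).isOpenEmbedding.injective hyz'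

end Groth.Agent.ZMT
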