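import Mathlib

/-!
# Stein factorisation of universally closed morphisms
-/

universe u

open CategoryTheory Limits AlgebraicGeometry Opposite TopologicalSpace

namespace Groth.Agent.ZMT

variable {X S : Scheme.{u}} (f : X ⟶ S) [UniversallyClosed f] [QuasiSeparated f]

/-- Functions on the preimage of an affine open are integral over it. -/
theorem isIntegral_app_of_universallyClosed {U : S.Opens} (hU : IsAffineOpen U) :
    (f.app U).hom.IsIntegral := by
  haveI : IsAffine U.toScheme := hU
  haveI : UniversallyClosed (f ∣_ U) := IsZariskiLocalAtTarget.restrict ‹_› U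
  have h := isIntegral_appTop_of_universallyClosed (f ∣_ U)
  rw [morphismRestrict_appTop] at h
  have key : ∀ (U' : S.Opens) (W : X.Opens) (e : W = f ⁻¹ᵁ U'), U' = U →
      (f.app U' ≫ X.presheaf.map (eqToHom e).op).hom.IsIntegral → (f.app U).hom.IsIntegral := by
    intro U' W e hU' h'
    subst hU'
    subst e
    simpa using h'
  exact key _ _ (image_morphismRestrict_preimage f U ⊤) U.ι_image_top h

/-- On preimages of affine opens the comparison is an isomorphism. -/
theorem isIso_toNormalization_app_preimage {U : S.Opens} (hU : IsAffineOpen U) :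
    IsIso (f.toNormalization.app (f.fromNormalization ⁻¹ᵁ U)) := by
  letI := (f.app U).hom.toAlgebra
  haveI : IsIso (CommRingCat.ofHom
      (integralClosure Γ(S, U) Γ(X, f ⁻¹ᵁ U)).val.toRingHom) :=
    (ConcreteCategory.isIso_iff_bijective _).2 ⟨Subtype.val_injective, fun x =>
      ⟨⟨x, isIntegral_app_of_universallyClosed f hU x⟩, rfl⟩⟩
  rw [f.toNormalization_app_preimage ⟨U, hU⟩]
  exact IsIso.comp_isIso' inferInstance (IsIso.comp_isIso' ‹_› inferInstance)

/-- The canonical map to the normalization identifies the structure sheaves. -/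
theorem isIso_toNormalization_app (W : f.normalization.Opens) : IsIso (f.toNormalization.app W) := by
  let N := f.normalization
  let ν := f.fromNormalization
  let j := f.toNormalization
  let B : (Σ U : S.affineOpens, Γ(N, ν ⁻¹ᵁ (U : S.Opens))) → N.Opens := fun p => N.basicOpen p.2
  have hB : Opens.IsBasis (Set.range B) := by
    refine Opens.isBasis_iff_nbhd.2 fun {W x} hx => ?_
    obtain ⟨_, ⟨U, hU, rfl⟩, hxU, -⟩ :=
      S.isBasis_affineOpens.exists_subset_of_mem_open (Set.mem_univ (ν x)) isOpen_univ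
    obtain ⟨g, hg, hxg⟩ := (hU.preimage ν).exists_basicOpen_le ⟨x, hx⟩ hxU
    exact ⟨_, ⟨⟨⟨U, hU⟩, g⟩, rfl⟩, hxg, hg⟩
  haveI : Functor.IsCoverDense (inducedFunctor B) (Opens.grothendieckTopology N) :=
    TopCat.Opens.coverDense_inducedFunctor hB
  let F : TopCat.Sheaf CommRingCat.{u} N.carrier := N.sheaf
  let G : TopCat.Sheaf CommRingCat.{u} N.carrier :=
    (TopCat.Sheaf.pushforward CommRingCat.{u} j.base).obj X.sheaf
  let α : F ⟶ G := ⟨j.c⟩
  have hbasic : ∀ p, IsIso (j.app (B p)) := by
    rintro ⟨⟨U, hU⟩, g⟩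
    let V := ν ⁻¹ᵁ U
    haveI : IsIso (j.app V) := isIso_toNormalization_app_preimage f hU
    letI := (N.presheaf.map (homOfLE (N.basicOpen_le g)).op).hom.toAlgebra
    haveI : IsLocalization.Away g Γ(N, N.basicOpen g) := (hU.preimage ν).isLocalization_basicOpen g
    have hle : j ⁻¹ᵁ N.basicOpen g ≤ j ⁻¹ᵁ V := j.preimage_mono (N.basicOpen_le g)
    have heq : j ⁻¹ᵁ N.basicOpen g = X.basicOpen (j.app V g) := j.preimage_basicOpen g
    letI : Algebra Γ(X, j ⁻¹ᵁ V) Γ(X, j ⁻¹ᵁ N.basicOpen g) :=
      (X.presheaf.map (homOfLE hle).op).hom.toAlgebra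
    haveI : IsLocalization.Away (j.app V g) Γ(X, j ⁻¹ᵁ N.basicOpen g) := by
      have key : ∀ (O : X.Opens) (hO : O ≤ j ⁻¹ᵁ V), O = X.basicOpen (j.app V g) →
          @IsLocalization.Away _ _ (j.app V g) Γ(X, O) _ (X.presheaf.map (homOfLE hO).op).hom.toAlgebra := by
        rintro _ hO rfl
        exact isLocalization_basicOpen_of_qcqs (j.isCompact_preimage (hU.preimage ν).isCompact)
          (j.isQuasiSeparated_preimage (hU.preimage ν).isQuasiSeparated) (j.app V g)
      exact key _ hle heq
    let e := (asIso (j.app V)).commRingCatIsoToRingEquiv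
    have hpow : Submonoid.map e.toMonoidHom (Submonoid.powers g) = Submonoid.powers (j.app V g) := by
      rw [Submonoid.map_powers]; rfl
    let e' := IsLocalization.ringEquivOfRingEquiv (M := Submonoid.powers g)
      (T := Submonoid.powers (j.app V g)) Γ(N, N.basicOpen g) Γ(X, j ⁻¹ᵁ N.basicOpen g) e hpow
    have he : (j.app (N.basicOpen g)).hom = e'.toRingHom := by
      refine IsLocalization.ringHom_ext (Submonoid.powers g) (RingHom.ext fun r => ?_)
      refine Eq.trans ?_ (IsLocalization.ringEquivOfRingEquiv_eq hpow r).symm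
      exact ConcreteCategory.congr_hom (j.naturality (homOfLE (N.basicOpen_le g)).op) r
    rw [ConcreteCategory.isIso_iff_bijective]
    exact congrArg DFunLike.coe he ▸ e'.bijective
  haveI : ∀ p : (InducedCategory N.Opens B)ᵒᵖ,
      IsIso (((inducedFunctor B).op.whiskerLeft α.hom).app p) := fun p => hbasic p.unop
  haveI : IsIso ((inducedFunctor B).op.whiskerLeft α.hom) := NatIso.isIso_of_isIso_app _
  haveI : IsIso α := Functor.IsCoverDense.iso_of_restrict_iso (G := inducedFunctor B) α inferInstance
  obtain ⟨β, h1, h2⟩ := this.out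
  exact ⟨β.hom.app (op W), congrArg (fun t : F ⟶ F => t.hom.app (op W)) h1,
    congrArg (fun t : G ⟶ G => t.hom.app (op W)) h2⟩

end Groth.Agent.ZMT
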