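import Mathlib

/-!
# Finite sets of points in quasi-affine schemes
-/

universe u

open CategoryTheory AlgebraicGeometry

namespace Groth.Agent.ZMT

/-- A finite set in an open of an affine scheme lies in a basic open inside it. -/
theorem exists_basicOpen_of_finset {R : CommRingCat.{u}} (W : (Spec R).Opens) (T : Finset (Spec R))
    (hT : ∀ x ∈ T, x ∈ W) :
    ∃ r : R, PrimeSpectrum.basicOpen r ≤ W ∧ ∀ x ∈ T, x ∈ PrimeSpectrum.basicOpen r := by
  classical
  obtain ⟨I, hI⟩ := (PrimeSpectrum.isClosed_iff_zeroLocus_ideal _).1 W.2.isClosed_compl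
  rcases T.eq_empty_or_nonempty with hT0 | ⟨d, -⟩
  · exact ⟨0, by simp, by simp [hT0]⟩
  by_cases h : (I : Set R) ⊆ ⋃ x ∈ (↑T : Set (Spec R)), (x.asIdeal : Set R)
  · obtain ⟨x, hx, hIx⟩ := (Ideal.subset_union_prime_finite T.finite_toSet (f := fun x : Spec R => x.asIdeal)
      d d (fun x _ _ _ => x.isPrime)).1 h
    have hmem : x ∈ (W.carrierᶜ : Set (Spec R)) := by rw [hI]; exact hIx
    exact absurd (hT x hx) hmem
  · obtain ⟨r, hrI, hr⟩ := Set.not_subset.1 h
    refine ⟨r, fun y hy => ?_, fun x hx hmem => hr (Set.mem_iUnion₂.2 ⟨x, hx, hmem⟩)⟩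
    by_contra hyW
    have : y ∈ PrimeSpectrum.zeroLocus (I : Set R) := hI ▸ hyW
    exact hy (this hrI)

/-- A finite set of points of a quasi-affine scheme lies in an affine open. -/
theorem exists_isAffineOpen_of_finset (X : Scheme.{u}) [X.IsQuasiAffine] (T : Finset X) :
    ∃ U : X.Opens, IsAffineOpen U ∧ ∀ x ∈ T, x ∈ U := by
  classical
  obtain ⟨r, hr, hrT⟩ := exists_basicOpen_of_finset X.toSpecΓ.opensRange (T.image X.toSpecΓ)
    fun y hy => by
      obtain ⟨x, -, rfl⟩ := Finset.mem_image.1 hy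
      exact ⟨x, rfl⟩
  exact ⟨X.toSpecΓ ⁻¹ᵁ PrimeSpectrum.basicOpen r,
    IsAffineOpen.preimage_of_isOpenImmersion (IsAffineOpen.Spec_basicOpen r) _ hr,
    fun x hx => hrT _ (Finset.mem_image_of_mem _ hx)⟩

end Groth.Agent.ZMT
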